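import Groth.Agent.Lib.Where15.Basic
import Groth.Agent.Lib.AlgSpDescent.RepBase

/-!
# Closed immersion and isomorphism loci in the base
-/

universe u

set_option backward.isDefEq.respectTransparency.types false

open CategoryTheory CategoryTheory.Limits AlgebraicGeometry Opposite MorphismProperty AlgSp Topology

namespace Groth.Agent.Where15

open Groth.Agent.AlgSpace Groth.Agent.AlgSpDecent Groth.Agent.AlgSpRel14

variable {S : Scheme.{u}} {X Y Z Z' : Space S} {f : X ⟶ Y} {q : Y ⟶ Z} {g : Z' ⟶ Z}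

theorem lft_of_lfp {A B : Sp S} {a : A ⟶ B} (h : LocP @LocallyOfFinitePresentation a) :
    LocP @LocallyOfFiniteType a :=
  locP_mono (Q := @LocallyOfFiniteType)
    (fun _ _ g (_ : LocallyOfFinitePresentation g) => inferInstance) h

theorem lft_left (hp : LocP @LocallyOfFiniteType (f.hom ≫ q.hom)) : LocP @LocallyOfFiniteType f.hom :=
  locP_lft_of_comp X.property Y.property Z.property hp

theorem isClosedMor_comp {A B C : Sp S} {a : A ⟶ B} {b : B ⟶ C} (ha : IsClosedMor a)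
    (hb : IsClosedMor b) : IsClosedMor (a ≫ b) := by
  change IsClosedMap (Points.map (a ≫ b))
  rw [map_comp_eq]
  exact IsClosedMap.comp hb ha

theorem isClosedMor_snd_comp (hc : IsUnivClosedMor (f.hom ≫ q.hom)) (hq : IsSeparatedMor q.hom) :
    IsClosedMor (pullback.snd f.hom f.hom ≫ f.hom ≫ q.hom) := by
  have hf := isUnivClosedMor_of_comp X.property Y.property Z.property hc hq
  exact isClosedMor_comp (hf X.property f.hom _ _ (IsPullback.of_hasPullback _ _))
    (isClosedMap_of_isUnivClosedMor Z.property hc)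

theorem unrInj_iff (hf : LocP @LocallyOfFiniteType f.hom) :
    (∀ z, Points.map g.hom z ∉ badUnr f q ∪ badInj f q) ↔
      ∀ D : BCData f q Z' g, LocP Unr D.f'.hom ∧ IsUnivInjectiveMor D.f'.hom := by
  constructor
  · intro h D
    exact ⟨unr_bc hf D fun z hz => h z (Or.inl hz), inj_bc D fun z hz => h z (Or.inr hz)⟩
  · intro h z
    obtain ⟨h1, h2⟩ := h (bcData f q Z' g)
    exact not_or.2 ⟨not_mem_badUnr hf _ h1 z, not_mem_badInj hf _ h1 h2 z⟩

theorem closedImmersion_bc_iff (hf : LocP @LocallyOfFiniteType f.hom)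
    (hfc : IsUnivClosedMor f.hom) (D : BCData f q Z' g) :
    RepWith @IsClosedImmersion D.f'.hom ↔ LocP Unr D.f'.hom ∧ IsUnivInjectiveMor D.f'.hom := by
  constructor
  · intro h
    have := AlgSpDescent.mono_of_repWith_closedImmersion h
    exact ⟨AlgSpDescent.unramified_of_mono D.X'.property D.Y'.property
      (AlgSpDescent.lft_of_repWith_closedImmersion D.Y'.property h), AlgSpDescent.isUnivInjectiveMor_of_mono _⟩
  · rintro ⟨hu, hi⟩
    have := AlgSpDescent.mono_of_unramified_univInjective D.X'.property D.Y'.property hu hi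
    exact AlgSpDescent.repWith_closedImmersion_of_univClosed D.X'.property D.Y'.property
      (univSp_of_isPullback D.sX hfc) (locP_mono (fun _ _ _ h => h.1) hu)

theorem isIso_bc_iff (hf : LocP @LocallyOfFiniteType f.hom)
    (hfc : IsUnivClosedMor f.hom) (D : BCData f q Z' g) :
    IsIso D.f'.hom ↔ LocP Unr D.f'.hom ∧ IsUnivInjectiveMor D.f'.hom ∧ LocP @Flat D.f'.hom ∧
      IsSurjectiveMor D.f'.hom := by
  constructor
  · intro h
    have hl : LocP @LocallyOfFiniteType D.f'.hom :=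
      locP_of_isPullback X.property Y.property D.Y'.property D.sX hf
    exact ⟨AlgSpDescent.unramified_of_mono D.X'.property D.Y'.property hl,
      AlgSpDescent.isUnivInjectiveMor_of_mono _,
      locP_of_repWith D.Y'.property (repWith_mono (Q := @Flat)
        (fun _ _ e (he : IsIso e) => (inferInstance : Flat e))
        (Groth.Agent.AlgSpDescent.repWith_isomorphisms_of_isIso D.f'.hom)),
      (bijective_map_iso D.f'.hom).2⟩
  · rintro ⟨hu, hi, hfl, hs⟩
    have := AlgSpDescent.mono_of_unramified_univInjective D.X'.property D.Y'.property hu hi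
    exact isIso_of_flat_mono D.X'.property D.Y'.property
      (isQuasiCompactMor_of_isUnivClosedMor D.X'.property D.Y'.property (univSp_of_isPullback D.sX hfc))
      hfl hs

theorem exists_where_unramified (hp1 : LocP @LocallyOfFiniteType (f.hom ≫ q.hom))
    (hp2 : IsClosedMor (f.hom ≫ q.hom)) :
    ∃ (W : Space S) (w : W ⟶ Z), RepWith @IsOpenImmersion w.hom ∧
      ∀ (Z' : Space S) (g : Z' ⟶ Z), (∃ k : Z' ⟶ W, k ≫ w = g) ↔
        ∀ D : BCData f q Z' g, LocP Unr D.f'.hom :=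
  exists_where _ (isClosed_badUnr hp2) _ fun Z' g =>
    ⟨fun h z => not_mem_badUnr (lft_left hp1) _ (h (bcData f q Z' g)) z,
      fun h D => unr_bc (lft_left hp1) D h⟩

theorem exists_where_unrInj (hp1 : LocP @LocallyOfFiniteType (f.hom ≫ q.hom))
    (hp2 : IsClosedMor (f.hom ≫ q.hom))
    (hp3 : IsClosedMor (pullback.snd f.hom f.hom ≫ f.hom ≫ q.hom)) :
    ∃ (W : Space S) (w : W ⟶ Z), RepWith @IsOpenImmersion w.hom ∧
      ∀ (Z' : Space S) (g : Z' ⟶ Z), (∃ k : Z' ⟶ W, k ≫ w = g) ↔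
        ∀ D : BCData f q Z' g, LocP Unr D.f'.hom ∧ IsUnivInjectiveMor D.f'.hom :=
  exists_where _ ((isClosed_badUnr hp2).union (isClosed_badInj hp3)) _ fun _ _ =>
    (unrInj_iff (lft_left hp1)).symm

theorem exists_where_closedImmersion (hp1 : LocP @LocallyOfFiniteType (f.hom ≫ q.hom))
    (hp2 : IsUnivClosedMor (f.hom ≫ q.hom)) (hq : IsSeparatedMor q.hom) :
    ∃ (W : Space S) (w : W ⟶ Z), RepWith @IsOpenImmersion w.hom ∧
      ∀ (Z' : Space S) (g : Z' ⟶ Z), (∃ k : Z' ⟶ W, k ≫ w = g) ↔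
        ∀ D : BCData f q Z' g, RepWith @IsClosedImmersion D.f'.hom :=
  exists_where _ ((isClosed_badUnr (isClosedMap_of_isUnivClosedMor Z.property hp2)).union
    (isClosed_badInj (isClosedMor_snd_comp hp2 hq))) _ fun _ _ =>
    (forall_congr' fun D => closedImmersion_bc_iff (lft_left hp1)
      (isUnivClosedMor_of_comp X.property Y.property Z.property hp2 hq) D).trans
      (unrInj_iff (lft_left hp1)).symm

theorem exists_where_flat (hp1 : LocP @LocallyOfFinitePresentation (f.hom ≫ q.hom))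
    (hp2 : LocP @Flat (f.hom ≫ q.hom)) (hp3 : IsClosedMor (f.hom ≫ q.hom))
    (hq : LocP @LocallyOfFiniteType q.hom) :
    ∃ (W : Space S) (w : W ⟶ Z), RepWith @IsOpenImmersion w.hom ∧
      ∀ (Z' : Space S) (g : Z' ⟶ Z), (∃ k : Z' ⟶ W, k ≫ w = g) ↔
        ∀ D : BCData f q Z' g, LocP @Flat D.f'.hom :=
  exists_where _ (isClosed_badFlat hp1 hp2 hq hp3) _ fun Z' g =>
    ⟨fun h z => not_mem_badFlat hp1 hp2 hq _ (h (bcData f q Z' g)) z,
      fun h D => flat_bc hp1 hp2 hq D h⟩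

theorem exists_where_surjective_flat (hp1 : LocP @LocallyOfFinitePresentation (f.hom ≫ q.hom))
    (hp2 : LocP @Flat (f.hom ≫ q.hom)) (hp3 : IsClosedMor (f.hom ≫ q.hom))
    (hq : LocP @LocallyOfFiniteType q.hom) (hq2 : IsClosedMor q.hom) :
    ∃ (W : Space S) (w : W ⟶ Z), RepWith @IsOpenImmersion w.hom ∧
      ∀ (Z' : Space S) (g : Z' ⟶ Z), (∃ k : Z' ⟶ W, k ≫ w = g) ↔
        ∀ D : BCData f q Z' g, IsSurjectiveMor D.f'.hom ∧ LocP @Flat D.f'.hom :=
  exists_where _ ((isClosed_badFlat hp1 hp2 hq hp3).union (isClosed_badSurj hp1 hq hq2)) _ fun Z' g =>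
    ⟨fun h z => not_or.2 ⟨not_mem_badFlat hp1 hp2 hq _ (h (bcData f q Z' g)).2 z,
        not_mem_badSurj hp1 hp2 hq _ (h (bcData f q Z' g)).2 (h (bcData f q Z' g)).1 z⟩,
      fun h D => ⟨surj_bc D fun z hz => h z (Or.inr hz), flat_bc hp1 hp2 hq D fun z hz => h z (Or.inl hz)⟩⟩

theorem exists_where_iso (hp1 : LocP @LocallyOfFinitePresentation (f.hom ≫ q.hom))
    (hp2 : LocP @Flat (f.hom ≫ q.hom)) (hp3 : IsUnivClosedMor (f.hom ≫ q.hom))
    (hq1 : LocP @LocallyOfFiniteType q.hom) (hq2 : IsClosedMor q.hom) (hq3 : IsSeparatedMor q.hom) :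
    ∃ (W : Space S) (w : W ⟶ Z), RepWith @IsOpenImmersion w.hom ∧
      ∀ (Z' : Space S) (g : Z' ⟶ Z), (∃ k : Z' ⟶ W, k ≫ w = g) ↔
        ∀ D : BCData f q Z' g, IsIso D.f'.hom := by
  have hp3' := isClosedMap_of_isUnivClosedMor Z.property hp3
  have hf := lft_left (f := f) (q := q) (lft_of_lfp hp1)
  have hfc := isUnivClosedMor_of_comp X.property Y.property Z.property hp3 hq3
  refine exists_where _ (((isClosed_badUnr hp3').union (isClosed_badInj (isClosedMor_snd_comp hp3 hq3))).union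
    ((isClosed_badFlat hp1 hp2 hq1 hp3').union (isClosed_badSurj hp1 hq1 hq2))) _ fun Z' g => ?_
  constructor
  · intro h z
    obtain ⟨h1, h2, h3, h4⟩ := (isIso_bc_iff hf hfc _).1 (h (bcData f q Z' g))
    exact not_or.2 ⟨not_or.2 ⟨not_mem_badUnr hf _ h1 z, not_mem_badInj hf _ h1 h2 z⟩,
      not_or.2 ⟨not_mem_badFlat hp1 hp2 hq1 _ h3 z, not_mem_badSurj hp1 hp2 hq1 _ h3 h4 z⟩⟩
  · intro h D
    exact (isIso_bc_iff hf hfc D).2 ⟨unr_bc hf D fun z hz => h z (Or.inl (Or.inl hz)),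
      inj_bc D fun z hz => h z (Or.inl (Or.inr hz)),
      flat_bc hp1 hp2 hq1 D fun z hz => h z (Or.inr (Or.inl hz)),
      surj_bc D fun z hz => h z (Or.inr (Or.inr hz))⟩

/-- Restating a condition on base change data with the squares unbundled. -/
theorem forall_bcData_iff (P : ∀ {A B : Space S}, (A.obj ⟶ B.obj) → Prop) :
    (∀ D : BCData f q Z' g, P D.f'.hom) ↔
      ∀ (Y' : Space S) (gY : Y' ⟶ Y) (q' : Y' ⟶ Z'), IsPullback gY.hom q'.hom q.hom g.hom →
        ∀ (X' : Space S) (gX : X' ⟶ X) (f' : X' ⟶ Y'), IsPullback gX.hom f'.hom f.hom gY.hom →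
          P f'.hom :=
  ⟨fun h Y' gY q' sY X' gX f' sX => h ⟨Y', gY, q', X', gX, f', sY, sX⟩,
    fun h D => h D.Y' D.gY D.q' D.sY D.X' D.gX D.f' D.sX⟩

theorem wrap {P : ∀ {A B : Space S}, (A.obj ⟶ B.obj) → Prop}
    (h : ∃ (W : Space S) (w : W ⟶ Z), RepWith @IsOpenImmersion w.hom ∧
      ∀ (Z' : Space S) (g : Z' ⟶ Z), (∃ k : Z' ⟶ W, k ≫ w = g) ↔
        ∀ D : BCData f q Z' g, P D.f'.hom) :
    ∃ (W : Space S) (w : W ⟶ Z), RepWith @IsOpenImmersion w.hom ∧
      ∀ (Z' : Space S) (g : Z' ⟶ Z), (∃ k : Z' ⟶ W, k ≫ w = g) ↔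
        ∀ (Y' : Space S) (gY : Y' ⟶ Y) (q' : Y' ⟶ Z'), IsPullback gY.hom q'.hom q.hom g.hom →
          ∀ (X' : Space S) (gX : X' ⟶ X) (f' : X' ⟶ Y'), IsPullback gX.hom f'.hom f.hom gY.hom →
            P f'.hom :=
  let ⟨W, w, hw, h⟩ := h
  ⟨W, w, hw, fun Z' g => (h Z' g).trans (forall_bcData_iff P)⟩

theorem isClosedMor_snd_of_square {XX : Space S} {pr0 pr1 : XX ⟶ X}
    (hXX : IsPullback pr0.hom pr1.hom f.hom f.hom) (h : IsClosedMor (pr1.hom ≫ f.hom ≫ q.hom)) :
    IsClosedMor (pullback.snd f.hom f.hom ≫ f.hom ≫ q.hom) := by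
  rw [← hXX.isoPullback_inv_snd, Category.assoc]
  exact isClosedMor_comp (isHomeomorph_map_iso hXX.isoPullback.inv).isClosedMap h

end Groth.Agent.Where15
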