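import Groth.Agent.Lib.AlgSpRel14.Unram
import Groth.Agent.Lib.AlgSpDecent.FlatAt
import Groth.Agent.Lib.AlgSpDecent.FlatMonoIso
import Groth.Agent.Lib.AlgSpace.DiagChart
import Groth.Agent.Lib.AlgSpace.UI
import Groth.Agent.Lib.AlgSpace.Proper
import Groth.Agent.Lib.AlgSpace.UnivClosedQC
import Groth.Agent.Lib.AlgSpace.Sub
import Groth.Agent.Lib.AlgSpace.Chart
import Groth.Agent.Lib.AlgSpDescent.MonoLft
import Groth.Agent.S10609

/-!
# Loci in the base where a morphism has good properties after base change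
-/

universe u

set_option backward.isDefEq.respectTransparency.types false

open CategoryTheory CategoryTheory.Limits AlgebraicGeometry Opposite MorphismProperty AlgSp Topology

namespace Groth.Agent.Where15

open Groth.Agent.AlgSpace Groth.Agent.AlgSpDecent Groth.Agent.AlgSpRel14

attribute [local simp] pullback.lift_fst pullback.lift_snd pullback.lift_fst_assoc
  pullback.lift_snd_assoc limit.lift_π limit.lift_π_assoc

variable {S : Scheme.{u}}

/-- A closed bad set in the base gives the open subspace representing the good base changes. -/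
theorem exists_where {Z : Space S} (C : Set (Points Z.obj)) (hC : IsClosed C)
    (Good : ∀ (Z' : Space S), (Z' ⟶ Z) → Prop)
    (h : ∀ (Z' : Space S) (g : Z' ⟶ Z), Good Z' g ↔ ∀ z, Points.map g.hom z ∉ C) :
    ∃ (W : Space S) (w : W ⟶ Z), RepWith @IsOpenImmersion w.hom ∧
      ∀ (Z' : Space S) (g : Z' ⟶ Z), (∃ k : Z' ⟶ W, k ≫ w = g) ↔ Good Z' g := by
  obtain ⟨W, w, hw, hr⟩ := exists_open_space Z hC.isOpen_compl
  refine ⟨W, w, hw, fun Z' g => (Iff.trans ⟨?_, ?_⟩ (h Z' g).symm)⟩
  · rintro ⟨k, rfl⟩ z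
    exact hr.subset ⟨Points.map k.hom z, (Points.map_comp _ _ _).symm⟩
  · intro hz
    obtain ⟨k, hk⟩ := exists_factor_of_range hw g.hom
      (by rintro _ ⟨z, rfl⟩; rw [hr]; exact hz z)
    exact ⟨ObjectProperty.homMk k, ObjectProperty.hom_ext _ hk⟩

variable {X Y Z : Space S} (f : X ⟶ Y) (q : Y ⟶ Z)

/-- The pointwise content of a base change of a morphism over the base. -/
structure BCData (Z' : Space S) (g : Z' ⟶ Z) where
  Y' : Space S
  gY : Y' ⟶ Y
  q' : Y' ⟶ Z'
  X' : Space S
  gX : X' ⟶ X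
  f' : X' ⟶ Y'
  sY : IsPullback gY.hom q'.hom q.hom g.hom
  sX : IsPullback gX.hom f'.hom f.hom gY.hom

/-- The canonical base change. -/
noncomputable def bcData (Z' : Space S) (g : Z' ⟶ Z) : BCData f q Z' g :=
  let Y' : Space S := ⟨pullback q.hom g.hom,
    isAlgSpace_baseChange Y.property Z.property Z'.property (IsPullback.of_hasPullback _ _)⟩
  let gY : Y' ⟶ Y := ObjectProperty.homMk (pullback.fst q.hom g.hom)
  let X' : Space S := ⟨pullback f.hom gY.hom,
    isAlgSpace_baseChange X.property Y.property Y'.property (IsPullback.of_hasPullback _ _)⟩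
  { Y' := Y'
    gY := gY
    q' := ObjectProperty.homMk (pullback.snd q.hom g.hom)
    X' := X'
    gX := ObjectProperty.homMk (pullback.fst f.hom gY.hom)
    f' := ObjectProperty.homMk (pullback.snd f.hom gY.hom)
    sY := IsPullback.of_hasPullback _ _
    sX := IsPullback.of_hasPullback _ _ }

variable {f q} {Z' : Space S} {g : Z' ⟶ Z}

theorem BCData.map_pt (D : BCData f q Z' g) (x' : Points D.X'.obj) :
    Points.map (f.hom ≫ q.hom) (Points.map D.gX.hom x') =
      Points.map g.hom (Points.map D.q'.hom (Points.map D.f'.hom x')) := by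
  rw [← Points.map_comp, ← Points.map_comp, ← Points.map_comp, (D.sX.paste_vert D.sY).w,
    Category.assoc]

theorem BCData.exists_pt (D : BCData f q Z' g) {x : Points X.obj} {z : Points Z'.obj}
    (h : Points.map (f.hom ≫ q.hom) x = Points.map g.hom z) :
    ∃ x', Points.map D.gX.hom x' = x := by
  obtain ⟨x', hx', -⟩ := exists_point_lift (D.sX.paste_vert D.sY) x z h
  exact ⟨x', hx'⟩

theorem isClosedMap_map {A B : Sp S} {a : A ⟶ B} (h : IsClosedMor a) : IsClosedMap (Points.map a) := h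

/-! ### Unramified -/

/-- The points where the morphism is ramified, pushed to the base. -/
def badUnr (f : X ⟶ Y) (q : Y ⟶ Z) : Set (Points Z.obj) :=
  Points.map (f.hom ≫ q.hom) '' {x | HasAtMor (Near Unr) f.hom x}ᶜ

theorem isClosed_badUnr (hp2 : IsClosedMor (f.hom ≫ q.hom)) : IsClosed (badUnr f q) :=
  hp2 _ (isOpen_setOf_hasAtMor_near Unr X.property Y.property f.hom).isClosed_compl

theorem unr_bc (hf : LocP @LocallyOfFiniteType f.hom) (D : BCData f q Z' g)
    (h : ∀ z, Points.map g.hom z ∉ badUnr f q) : LocP Unr D.f'.hom := by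
  rw [locP_iff_forall_hasAtMor_near Unr D.X'.property D.Y'.property]
  intro x'
  rw [hasAtMor_unr_baseChange X.property Y.property D.Y'.property hf D.sX x']
  by_contra hb
  exact h _ ⟨_, hb, D.map_pt x'⟩

theorem not_mem_badUnr (hf : LocP @LocallyOfFiniteType f.hom) (D : BCData f q Z' g)
    (h : LocP Unr D.f'.hom) (z : Points Z'.obj) : Points.map g.hom z ∉ badUnr f q := by
  rintro ⟨x, hx, hxz⟩
  obtain ⟨x', rfl⟩ := D.exists_pt hxz
  exact hx ((hasAtMor_unr_baseChange X.property Y.property D.Y'.property hf D.sX x').1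
    ((locP_iff_forall_hasAtMor_near Unr D.X'.property D.Y'.property _).1 h x'))

/-! ### Flatness -/

theorem locP_flat_iff {A B : Space S} (a : A.obj ⟶ B.obj) :
    LocP @Flat a ↔ ∀ x, IsFlatAtMor a x := by
  constructor
  · intro h x U V c b k u hc hb w hx
    have : Flat k.left := h c b k hc hb w
    exact Flat.stalkMap _ _
  · intro h U V c b k hc hb w
    exact (Flat.iff_flat_stalkMap _).2 fun u => (FlatAt.isFlatAtMor_iff hc hb w u).1 (h _)

/-- The points where the morphism is not flat, pushed to the base. -/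
def badFlat (f : X ⟶ Y) (q : Y ⟶ Z) : Set (Points Z.obj) :=
  Points.map (f.hom ≫ q.hom) '' {x | IsFlatAtMor f.hom x}ᶜ

theorem isClosed_badFlat (hp : LocP @LocallyOfFinitePresentation (f.hom ≫ q.hom))
    (hfl : LocP @Flat (f.hom ≫ q.hom)) (hq : LocP @LocallyOfFiniteType q.hom)
    (hp3 : IsClosedMor (f.hom ≫ q.hom)) : IsClosed (badFlat f q) :=
  hp3 _ (Groth.Agent.S10609.result f q hp hfl hq).1.isClosed_compl

theorem flatSet_bc (hp : LocP @LocallyOfFinitePresentation (f.hom ≫ q.hom))
    (hfl : LocP @Flat (f.hom ≫ q.hom)) (hq : LocP @LocallyOfFiniteType q.hom)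
    (D : BCData f q Z' g) (x' : Points D.X'.obj) :
    IsFlatAtMor D.f'.hom x' ↔ IsFlatAtMor f.hom (Points.map D.gX.hom x') :=
  Set.ext_iff.1 ((Groth.Agent.S10609.result f q hp hfl hq).2 D.X' D.Y' Z' g D.f' D.q' D.gX D.gY
    D.sY D.sX) x'

theorem flat_bc (hp : LocP @LocallyOfFinitePresentation (f.hom ≫ q.hom))
    (hfl : LocP @Flat (f.hom ≫ q.hom)) (hq : LocP @LocallyOfFiniteType q.hom)
    (D : BCData f q Z' g) (h : ∀ z, Points.map g.hom z ∉ badFlat f q) : LocP @Flat D.f'.hom := by
  rw [locP_flat_iff]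
  intro x'
  rw [flatSet_bc hp hfl hq D]
  by_contra hb
  exact h _ ⟨_, hb, D.map_pt x'⟩

theorem not_mem_badFlat (hp : LocP @LocallyOfFinitePresentation (f.hom ≫ q.hom))
    (hfl : LocP @Flat (f.hom ≫ q.hom)) (hq : LocP @LocallyOfFiniteType q.hom)
    (D : BCData f q Z' g) (h : LocP @Flat D.f'.hom) (z : Points Z'.obj) :
    Points.map g.hom z ∉ badFlat f q := by
  rintro ⟨x, hx, hxz⟩
  obtain ⟨x', rfl⟩ := D.exists_pt hxz
  exact hx ((flatSet_bc hp hfl hq D x').1 ((locP_flat_iff _).1 h x'))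

/-! ### Surjectivity -/

theorem isOpen_image_flatSet (hp : LocP @LocallyOfFinitePresentation (f.hom ≫ q.hom))
    (hq : LocP @LocallyOfFiniteType q.hom) :
    IsOpen (Points.map f.hom '' {x | IsFlatAtMor f.hom x}) := by
  obtain ⟨V, W, b, c, k, hbe, hbs, hce, hcs, wk⟩ := exists_chart_square Y.property Z.property q.hom
  obtain ⟨U, a, m, hae, has, wm⟩ := exists_chart_over X.property Y.property f.hom b hbe hbs
  have : LocallyOfFiniteType k.left := hq b c k hbe hce wk
  have : LocallyOfFinitePresentation (m.left ≫ k.left) := hp a c (m ≫ k) hae hce (by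
    rw [Functor.map_comp, Category.assoc, ← wk, ← Category.assoc, wm, Category.assoc])
  have : LocallyOfFinitePresentation m.left :=
    Groth.Agent.SchBasic.locallyOfFinitePresentation_of_comp m.left k.left
  let O : U.left.Opens := ⟨{u | (m.left.stalkMap u).hom.Flat}, FlatH4.isOpen_flatLocus m.left⟩
  have : Flat (O.ι ≫ m.left) := (Flat.iff_flat_stalkMap _).2 fun u =>
    (FlatH4.flat_stalkMap_comp_left_iff O.ι m.left u).2 u.2
  have e : Points.map f.hom '' {x | IsFlatAtMor f.hom x} =
      Points.ofPt b '' (Set.range (O.ι ≫ m.left)) := by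
    ext y
    constructor
    · rintro ⟨x, hx, rfl⟩
      obtain ⟨u, rfl⟩ := surjective_ofPt has x
      exact ⟨m.left u, ⟨⟨u, (FlatAt.isFlatAtMor_iff hae hbe wm u).1 hx⟩, rfl⟩,
        by rw [Points.map_ofPt, wm, ofPt_map_comp]⟩
    · rintro ⟨_, ⟨u, rfl⟩, rfl⟩
      exact ⟨Points.ofPt a u.1, (FlatAt.isFlatAtMor_iff hae hbe wm _).2 u.2,
        by rw [Points.map_ofPt, wm, ofPt_map_comp]; rfl⟩
  rw [e]
  exact isOpenMap_ofPt b hbe _ (O.ι ≫ m.left).isOpenMap.isOpen_range

/-- The points not covered by the flat locus, pushed to the base. -/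
def badSurj (f : X ⟶ Y) (q : Y ⟶ Z) : Set (Points Z.obj) :=
  Points.map q.hom '' (Points.map f.hom '' {x | IsFlatAtMor f.hom x})ᶜ

theorem isClosed_badSurj (hp : LocP @LocallyOfFinitePresentation (f.hom ≫ q.hom))
    (hq : LocP @LocallyOfFiniteType q.hom) (hq2 : IsClosedMor q.hom) : IsClosed (badSurj f q) :=
  hq2 _ (isOpen_image_flatSet hp hq).isClosed_compl

theorem surj_bc (D : BCData f q Z' g) (h : ∀ z, Points.map g.hom z ∉ badSurj f q) :
    IsSurjectiveMor D.f'.hom := by
  intro y'
  have h1 : Points.map D.gY.hom y' ∈ Points.map f.hom '' {x | IsFlatAtMor f.hom x} := by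
    by_contra hb
    exact h (Points.map D.q'.hom y') ⟨_, hb, by rw [← Points.map_comp, ← Points.map_comp, D.sY.w]⟩
  obtain ⟨x, -, hx⟩ := h1
  obtain ⟨x', -, hx'⟩ := exists_point_lift D.sX x y' hx
  exact ⟨x', hx'⟩

theorem not_mem_badSurj (hp : LocP @LocallyOfFinitePresentation (f.hom ≫ q.hom))
    (hfl : LocP @Flat (f.hom ≫ q.hom)) (hq : LocP @LocallyOfFiniteType q.hom)
    (D : BCData f q Z' g) (hf' : LocP @Flat D.f'.hom) (h : IsSurjectiveMor D.f'.hom)
    (z : Points Z'.obj) : Points.map g.hom z ∉ badSurj f q := by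
  rintro ⟨y, hy, hyz⟩
  obtain ⟨y', hy', -⟩ := exists_point_lift D.sY y z hyz
  obtain ⟨x', rfl⟩ := h y'
  refine hy ⟨Points.map D.gX.hom x', (flatSet_bc hp hfl hq D x').1 ((locP_flat_iff _).1 hf' x'), ?_⟩
  rw [← hy', ← Points.map_comp, ← Points.map_comp, D.sX.w]

/-! ### Universal injectivity -/

/-- The diagonal of a base change is a base change of the diagonal. -/
theorem isPullback_diagonal {A B A' B' : Sp S} {a : A ⟶ B} {a' : A' ⟶ B'} {gA : A' ⟶ A} {gB : B' ⟶ B}
    (sq : IsPullback gA a' a gB) :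
    IsPullback gA (pullback.diagonal a') (pullback.diagonal a)
      (pullback.map a' a' a a gA gA gB sq.w.symm sq.w.symm) := by
  have sq2 : IsPullback (pullback.map a' a' a a gA gA gB sq.w.symm sq.w.symm) (pullback.snd a' a')
      (pullback.snd a a) gA := by
    have h1 : IsPullback (pullback.fst a' a' ≫ gA) (pullback.snd a' a') a (gA ≫ a) := by
      rw [sq.w]
      exact (IsPullback.of_hasPullback a' a').paste_horiz sq
    exact IsPullback.of_right (by simpa using h1) (by simp) (IsPullback.of_hasPullback a a)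
  refine IsPullback.of_bot ?_ (by apply pullback.hom_ext <;> simp) sq2
  simpa using (IsPullback.of_vert_isIso ⟨by simp⟩ : IsPullback gA (𝟙 A') (𝟙 A) gA)

/-- The points of the square of the source off the diagonal of the unramified locus, pushed to the base. -/
def badInj (f : X ⟶ Y) (q : Y ⟶ Z) : Set (Points Z.obj) :=
  Points.map (pullback.snd f.hom f.hom ≫ f.hom ≫ q.hom) ''
    (Points.map (pullback.diagonal f.hom) '' {x | HasAtMor (Near Unr) f.hom x})ᶜ

theorem isOpen_image_unrSet :
    IsOpen (Points.map (pullback.diagonal f.hom) '' {x | HasAtMor (Near Unr) f.hom x}) := by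
  obtain ⟨X₁, j, hj, hr⟩ := exists_open_space X
    (isOpen_setOf_hasAtMor_near Unr X.property Y.property f.hom)
  have hu : LocP Unr (j.hom ≫ f.hom) := by
    rw [locP_iff_forall_hasAtMor_near Unr X₁.property Y.property]
    intro y
    rw [hasAtMor_near_comp_openImmersion Unr X₁.property Y.property hj]
    exact hr.subset ⟨y, rfl⟩
  have hd := repWith_diagonal_isOpenImmersion_of_unramified X₁.property Y.property hu
  let q₁ : pullback (j.hom ≫ f.hom) (j.hom ≫ f.hom) ⟶ pullback f.hom (j.hom ≫ f.hom) :=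
    pullback.map _ _ _ _ j.hom (𝟙 _) (𝟙 Y.obj) (by simp) (by simp)
  let q₂ : pullback f.hom (j.hom ≫ f.hom) ⟶ pullback f.hom f.hom :=
    pullback.map _ _ _ _ (𝟙 X.obj) j.hom (𝟙 Y.obj) (by simp) (by simp)
  have sq₁ : IsPullback (pullback.fst (j.hom ≫ f.hom) (j.hom ≫ f.hom)) q₁ j.hom
      (pullback.fst f.hom (j.hom ≫ f.hom)) :=
    IsPullback.of_bot (by simpa [q₁] using IsPullback.of_hasPullback (j.hom ≫ f.hom) (j.hom ≫ f.hom))
      (by simp [q₁]) (IsPullback.of_hasPullback f.hom (j.hom ≫ f.hom))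
  have sq₂ : IsPullback q₂ (pullback.snd f.hom (j.hom ≫ f.hom)) (pullback.snd f.hom f.hom) j.hom :=
    IsPullback.of_right (by simpa [q₂] using IsPullback.of_hasPullback f.hom (j.hom ≫ f.hom))
      (by simp [q₂]) (IsPullback.of_hasPullback f.hom f.hom)
  have e : j.hom ≫ pullback.diagonal f.hom = pullback.diagonal (j.hom ≫ f.hom) ≫ q₁ ≫ q₂ := by
    apply pullback.hom_ext <;> simp [q₁, q₂]
  have hopen : RepWith @IsOpenImmersion (j.hom ≫ pullback.diagonal f.hom) := by
    rw [e]
    exact repWith_comp hd (repWith_comp (repWith_of_isPullback sq₁ hj) (repWith_of_isPullback sq₂.flip hj))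
  rw [← hr, ← Set.range_comp, ← map_comp_eq]
  exact isOpen_range_map_of_openImmersion hopen

theorem isClosed_badInj (h : IsClosedMor (pullback.snd f.hom f.hom ≫ f.hom ≫ q.hom)) :
    IsClosed (badInj f q) :=
  h _ isOpen_image_unrSet.isClosed_compl

theorem inj_bc (D : BCData f q Z' g) (h : ∀ z, Points.map g.hom z ∉ badInj f q) :
    IsUnivInjectiveMor D.f'.hom := by
  refine isUnivInjectiveMor_of_fieldPts fun K _ str =>
    injective_fieldPts_of_surjective_diagonal D.X'.property (fun w => ?_) K str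
  have sqd := isPullback_diagonal D.sX
  let μ := pullback.map D.f'.hom D.f'.hom f.hom f.hom D.gX.hom D.gX.hom D.gY.hom D.sX.w.symm D.sX.w.symm
  have h1 : Points.map μ w ∈ Points.map (pullback.diagonal f.hom) '' {x | HasAtMor (Near Unr) f.hom x} := by
    by_contra hb
    refine h (Points.map D.q'.hom (Points.map D.f'.hom (Points.map (pullback.snd D.f'.hom D.f'.hom) w)))
      ⟨_, hb, ?_⟩
    rw [← D.map_pt, ← Points.map_comp μ, ← Points.map_comp (pullback.snd D.f'.hom D.f'.hom),
      ← Points.map_comp (pullback.snd D.f'.hom D.f'.hom ≫ D.gX.hom)]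
    simp [μ]
  obtain ⟨x, -, hx⟩ := h1
  obtain ⟨x', -, hx'⟩ := exists_point_lift sqd x w hx
  exact ⟨x', hx'⟩

theorem not_mem_badInj (hf : LocP @LocallyOfFiniteType f.hom) (D : BCData f q Z' g)
    (hu : LocP Unr D.f'.hom) (hi : IsUnivInjectiveMor D.f'.hom) (z : Points Z'.obj) :
    Points.map g.hom z ∉ badInj f q := by
  rintro ⟨v, hv, hvz⟩
  let μ := pullback.map D.f'.hom D.f'.hom f.hom f.hom D.gX.hom D.gX.hom D.gY.hom D.sX.w.symm D.sX.w.symm
  have sqμ : IsPullback μ (pullback.snd D.f'.hom D.f'.hom) (pullback.snd f.hom f.hom) D.gX.hom := by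
    have h1 : IsPullback (pullback.fst D.f'.hom D.f'.hom ≫ D.gX.hom) (pullback.snd D.f'.hom D.f'.hom)
        f.hom (D.gX.hom ≫ f.hom) := by
      rw [D.sX.w]
      exact (IsPullback.of_hasPullback D.f'.hom D.f'.hom).paste_horiz D.sX
    exact IsPullback.of_right (by simpa [μ] using h1) (by simp [μ]) (IsPullback.of_hasPullback f.hom f.hom)
  obtain ⟨w, hw, -⟩ := exists_point_lift (sqμ.paste_vert (D.sX.paste_vert D.sY)) v z hvz
  obtain ⟨x', rfl⟩ := surjective_diagonal_of_univInjective hi w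
  refine hv ⟨Points.map D.gX.hom x', ?_, ?_⟩
  · exact (hasAtMor_unr_baseChange X.property Y.property D.Y'.property hf D.sX x').1
      ((locP_iff_forall_hasAtMor_near Unr D.X'.property D.Y'.property _).1 hu x')
  · rw [← hw, ← Points.map_comp, ← Points.map_comp, (isPullback_diagonal D.sX).w]

end Groth.Agent.Where15
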